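import Cfsg.Agent.H835.Rg.Num
import Cfsg.Agent.H141.Rg.Defs
import Cfsg.Agent.H141.Rg.Act

/-!
# S5714: the two regimes (bounded and unbounded rank) for the classical groups

* `CoreSt`, `SmallSt`, `BadSt` : the statements of `core`, `small_le`, `badN_le`;
* `Dat` : the data;
* `unb` : unbounded rank; `bdd` : bounded rank; `famP_of` : the glue.
-/

set_option autoImplicit false

namespace Cfsg.Agent.H835.Rg

open Cfsg Cfsg.Agent.OrdDiv Cfsg.Agent.H436 Cfsg.Agent.H141.Rg Polynomial Module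

/-- the statement of `core` -/
def CoreSt : Prop := ∃ A : ℝ, 0 < A ∧ ∀ (K V : Type) [Field K] [Finite K] [AddCommGroup V] [Module K V] [Finite V] (X : Type) [Group X]
    [Finite X] (σ : K →+* K), (∀ x, σ (σ x) = x) → ∀ (τ : X →* (V →ₗ[K] V)) (s : K[X]), (s = 1 ∨ s = Polynomial.X ^ 2 - 1) →
    ∀ (c : ℕ → ℝ), (∀ D, 1 ≤ c D) → EL σ τ s c → ∀ (k L : ℕ) (M : ℝ), 0 ≤ M → 1 ≤ k → 1 ≤ L →
    (∀ D, L ≤ D → D ≤ finrank K V → c D * (Nat.card K : ℝ) ^ (-(D : ℝ) / 16) ≤ M) →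
    (Nat.card {x : X // ¬ GoodPow (τ x) (smallP (τ x) (Sml L s)) k} : ℝ) ≤
      A * k ^ 3 * ((finrank K V : ℝ) + 1) ^ 3 * M * Nat.card X

/-- the statement of `small_le` -/
def SmallSt : Prop := ∃ A : ℝ, 0 < A ∧ ∀ (K V : Type) [Field K] [Finite K] [AddCommGroup V] [Module K V] [Finite V] (X : Type) [Group X]
    [Finite X] (σ : K →+* K), (∀ x, σ (σ x) = x) → ∀ (τ : X →* (V →ₗ[K] V)) (s : K[X]), (s = 1 ∨ s = Polynomial.X ^ 2 - 1) →
    ∀ (c : ℕ → ℝ) (c1 : ℝ), 1 ≤ c1 → (∀ D, 2 * D < finrank K V → c D ≤ c1) → (∀ D, c D ≤ c1 * Nat.card K) →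
    EL σ τ s c → (s ≠ 1 → ELpm τ c) → ∀ L : ℕ, 1 ≤ L → 16 * L ≤ finrank K V →
    (∑ᶠ x : X, (finrank K (smallP (τ x) (Sml L s)) : ℝ)) ≤ A * c1 * L * Nat.card X

/-- the statement of `badN_le` -/
def BadSt : Prop := ∀ {K V : Type} [Field K] [Finite K] [AddCommGroup V] [Module K V] [Finite V] {X : Type} [Group X] [Finite X]
    {T : Type} [Group T] [Finite T] (π : X →* T) (_ : Function.Surjective π) (_ : π.ker ≤ Subgroup.center X)
    {τ : X →* (V →ₗ[K] V)} (_ : Function.Injective τ) {d ρ w : ℝ} {s0 k : ℕ} (_ : 0 < w) (_ : 0 ≤ d)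
    (_ : ∀ χ : T → ℂ, IsIrrCharacter T χ → (∃ g, χ g ≠ 1) → d ≤ (χ 1).re) (_ : 0 ≤ ρ)
    (_ : (Nat.card K : ℝ) ^ (s0 ^ 2) * (w * Nat.card (ConjClasses X)) ≤ (ρ * d) ^ 2),
    (badN T k ρ : ℝ) * Nat.card X ≤
      (Nat.card {x : X // ¬ ∃ A : Submodule K V, finrank K A ≤ s0 ∧ GoodPow (τ x) A (k + 1)} + Nat.card X / w) * Nat.card T

/-- the data of a classical group: `T = X / Z`, `X` acts on `V`, `d` is a lower bound for the degrees of `T` -/
structure Dat (K V X T : Type) [Field K] [AddCommGroup V] [Module K V] [Group X] [Group T]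
    (τ : X →* (V →ₗ[K] V)) (π : X →* T) (d : ℝ) : Prop where
  surj : Function.Surjective π
  ker : π.ker ≤ Subgroup.center X
  inj : Function.Injective τ
  d0 : 0 ≤ d
  deg : ∀ χ : T → ℂ, IsIrrCharacter T χ → (∃ g, χ g ≠ 1) → d ≤ (χ 1).re

section

variable {K V X T : Type} [Field K] [Finite K] [AddCommGroup V] [Module K V] [Finite V] [Group X] [Finite X] [Group T]
  [Finite T] {τ : X →* (V →ₗ[K] V)} {π : X →* T} {d : ℝ}

omit [Finite K] [Finite T] in
theorem Dat.card_le (h : Dat K V X T τ π d) : Nat.card T ≤ Nat.card K ^ (finrank K V ^ 2) := by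
  have : Module.Finite K V := inferInstance
  have : Finite (V →ₗ[K] V) := Finite.of_injective (fun f => (f : V → V)) DFunLike.coe_injective
  have h1 : Nat.card T ≤ Nat.card X := Nat.card_le_card_of_surjective _ h.surj
  have h2 : Nat.card X ≤ Nat.card (V →ₗ[K] V) := Nat.card_le_card_of_injective _ h.inj
  have h3 : Nat.card (V →ₗ[K] V) = Nat.card K ^ (finrank K V ^ 2) := by
    rw [Module.natCard_eq_pow_finrank (K := K), Module.finrank_linearMap, sq]
  omega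

omit [Finite K] in
theorem Dat.lg_le (h : Dat K V X T τ π d) : lg T ≤ (finrank K V : ℝ) ^ 2 * Real.log (Nat.card K) := by
  unfold lg
  have h1 : (Nat.card T : ℝ) ≤ (Nat.card K : ℝ) ^ (finrank K V ^ 2) := by exact_mod_cast h.card_le
  have h2 := Real.log_le_log (by exact_mod_cast Nat.card_pos) h1
  rw [Real.log_pow] at h2
  exact_mod_cast h2

omit [Finite T] [Group T] in
theorem lg_nonneg : 0 ≤ lg T := Real.log_natCast_nonneg _

omit [Finite T] in
/-- `badN` for a real bound -/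
theorem badN_floor {r ρ : ℝ} (hr : 0 ≤ r) : badN T r ρ = badN T (⌊r⌋₊ : ℝ) ρ := by
  unfold badN
  congr 2
  ext y
  constructor
  · rintro ⟨m, h1, h2, h3⟩
    exact ⟨m, h1, by exact_mod_cast Nat.le_floor h2, h3⟩
  · rintro ⟨m, h1, h2, h3⟩
    exact ⟨m, h1, (h2.trans (Nat.floor_le hr)), h3⟩

/-- the common part: a count of bad elements and the numerical condition -/
theorem key (hb : BadSt) (h : Dat K V X T τ π d) (a s0 : ℕ) {ε : ℝ} (hε : 0 < ε)
    (hbad : ∀ k : ℕ, (k : ℝ) ≤ ((finrank K V : ℝ) ^ 2 * Real.log (Nat.card K)) ^ a →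
      (Nat.card {x : X // ¬ ∃ A : Submodule K V, finrank K A ≤ s0 ∧ GoodPow (τ x) A (k + 1)} : ℝ) ≤ ε / 2 * Nat.card X)
    (hnum : (Nat.card K : ℝ) ^ (s0 ^ 2) * (2 / ε * Nat.card (ConjClasses X)) *
      (((finrank K V : ℝ) ^ 2 * Real.log (Nat.card K)) ^ a) ^ 2 ≤ d ^ 2) :
    (badN T (lg T ^ a) ((lg T ^ a)⁻¹) : ℝ) ≤ ε * Nat.card T := by
  have hl : 0 ≤ lg T ^ a := pow_nonneg lg_nonneg a
  have hR : lg T ^ a ≤ ((finrank K V : ℝ) ^ 2 * Real.log (Nat.card K)) ^ a := pow_le_pow_left₀ lg_nonneg h.lg_le a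
  have hT : (0 : ℝ) < Nat.card T := by exact_mod_cast Nat.card_pos
  have hX : (0 : ℝ) < Nat.card X := by exact_mod_cast Nat.card_pos
  rw [badN_floor hl]
  rcases hl.eq_or_lt with h0 | h0
  · have e : badN T ((⌊lg T ^ a⌋₊ : ℕ) : ℝ) ((lg T ^ a)⁻¹) = 0 := by
      unfold badN
      rw [← h0, Nat.floor_zero]
      have : IsEmpty {y : T // ∃ m : ℕ, 1 ≤ m ∧ (m : ℝ) ≤ ((0 : ℕ) : ℝ) ∧ ¬ Rat (0 : ℝ)⁻¹ (y ^ m)} := by
        constructor
        rintro ⟨y, m, h1, h2, -⟩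
        have : m ≤ 0 := by exact_mod_cast h2
        omega
      exact Nat.card_of_isEmpty
    rw [e]
    push_cast
    positivity
  · have h1 := hb (w := 2 / ε) (ρ := (lg T ^ a)⁻¹) (s0 := s0) (k := ⌊lg T ^ a⌋₊) π h.surj h.ker h.inj (by positivity) h.d0 h.deg
      (by positivity) (by
        rw [mul_pow, inv_pow, inv_mul_eq_div, le_div_iff₀ (by positivity)]
        refine le_trans ?_ hnum
        gcongr)
    have h2 := hbad ⌊lg T ^ a⌋₊ ((Nat.floor_le hl).trans hR)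
    have h3 : (Nat.card X : ℝ) / (2 / ε) = ε / 2 * Nat.card X := by
      field_simp
    rw [h3] at h1
    have h4 : (badN T (⌊lg T ^ a⌋₊ : ℝ) ((lg T ^ a)⁻¹) : ℝ) * Nat.card X ≤ (ε * Nat.card T) * Nat.card X := by
      refine h1.trans ?_
      calc _ ≤ (ε / 2 * Nat.card X + ε / 2 * Nat.card X) * (Nat.card T : ℝ) := by gcongr
        _ = _ := by ring
    exact le_of_mul_le_mul_right h4 hX

omit [Group X] in
/-- Markov's inequality -/
theorem markov (f : X → ℕ) (s0 : ℕ) :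
    (Nat.card {x : X // s0 < f x} : ℝ) * ((s0 : ℝ) + 1) ≤ ∑ᶠ x : X, (f x : ℝ) := by
  classical
  have : Fintype X := Fintype.ofFinite X
  rw [finsum_eq_sum_of_fintype, Nat.card_eq_fintype_card, Fintype.card_subtype]
  calc ((Finset.univ.filter fun x => s0 < f x).card : ℝ) * ((s0 : ℝ) + 1)
      = ∑ x ∈ Finset.univ.filter (fun x => s0 < f x), ((s0 : ℝ) + 1) := by
        rw [Finset.sum_const, nsmul_eq_mul]
    _ ≤ ∑ x ∈ Finset.univ.filter (fun x => s0 < f x), (f x : ℝ) := by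
        apply Finset.sum_le_sum
        intro x hx
        have : s0 + 1 ≤ f x := (Finset.mem_filter.1 hx).2
        exact_mod_cast this
    _ ≤ ∑ x, (f x : ℝ) := Finset.sum_le_sum_of_subset_of_nonneg (Finset.filter_subset _ _) fun _ _ _ => Nat.cast_nonneg _

end

/-- **Unbounded rank.** -/
theorem unb (hc : CoreSt) (hs : SmallSt) (hb : BadSt) (a : ℕ) {ε C c1 : ℝ} (hε : 0 < ε) (hC : 0 ≤ C) (hc1 : 1 ≤ c1) :
    ∃ N : ℕ, ∀ (K V X T : Type) [Field K] [Finite K] [AddCommGroup V] [Module K V] [Finite V] [Group X] [Finite X] [Group T]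
      [Finite T] (τ : X →* (V →ₗ[K] V)) (π : X →* T) (d : ℝ) (σ : K →+* K) (s : K[X]) (c : ℕ → ℝ), Dat K V X T τ π d →
      (∀ x, σ (σ x) = x) → (s = 1 ∨ s = Polynomial.X ^ 2 - 1) → (∀ D, 1 ≤ c D) → (∀ D, 2 * D < finrank K V → c D ≤ c1) →
      (∀ D, c D ≤ c1 * Nat.card K) → EL σ τ s c → (s ≠ 1 → ELpm τ c) →
      (Nat.card K : ℝ) ^ ((finrank K V : ℝ) / 4) * Nat.card (ConjClasses X) ≤ C * d ^ 2 → N ≤ finrank K V →
      (badN T (lg T ^ a) ((lg T ^ a)⁻¹) : ℝ) ≤ ε * Nat.card T := by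
  obtain ⟨A, hA, hc⟩ := hc
  obtain ⟨A', hA', hs⟩ := hs
  obtain ⟨u1, hu1⟩ := num_one a (A * c1) (by positivity) (ε := ε / 4) (by positivity)
  obtain ⟨u2, hu2⟩ := num_two (A' * c1) (ε := ε / 4) (by positivity)
  obtain ⟨u3, hu3⟩ := num_three a (2 / ε * C) (by positivity)
  refine ⟨(max (max u1 u2) (max u3 10)) ^ 4, ?_⟩
  intro K V X T _ _ _ _ _ _ _ _ _ τ π d σ s c h hσ hs1 hc0 hc2 hc3 hEL hpm hnum hN
  have hu : max (max u1 u2) (max u3 10) ≤ Lf (finrank K V) := le_Lf hN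
  have e1 : u1 ≤ Lf (finrank K V) := ((le_max_left u1 u2).trans (le_max_left _ _)).trans hu
  have e2 : u2 ≤ Lf (finrank K V) := ((le_max_right u1 u2).trans (le_max_left _ _)).trans hu
  have e3 : u3 ≤ Lf (finrank K V) := ((le_max_left u3 10).trans (le_max_right _ _)).trans hu
  have e4 : 10 ≤ Lf (finrank K V) := ((le_max_right u3 10).trans (le_max_right _ _)).trans hu
  have hLn := Lf_pow_le (finrank K V)
  generalize hn : finrank K V = n at *
  have hLn2 : 16 * Lf n + 64 ≤ n := by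
    have h1 : 1000 * Lf n ≤ Lf n ^ 4 := by
      calc 1000 * Lf n = 10 ^ 3 * Lf n := by norm_num
        _ ≤ Lf n ^ 3 * Lf n := by gcongr
        _ = Lf n ^ 4 := by ring
    omega
  have hQ : (2 : ℝ) ≤ Nat.card K := by exact_mod_cast Finite.one_lt_card (α := K)
  have hQ0 : (0 : ℝ) < Nat.card K := by linarith
  have hX : (0 : ℝ) < Nat.card X := by exact_mod_cast Nat.card_pos
  apply key hb h a (sf n) hε
  · intro k hk
    rw [hn] at hk
    have h1 := hc K V X σ hσ τ s hs1 c hc0 hEL (k + 1) (Lf n) (c1 * (Nat.card K : ℝ) ^ (-(Lf n : ℝ) / 16)) (by positivity) (by omega) (by omega)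
      (by
        intro D hD1 hD2
        by_cases hD : 2 * D < n
        · apply mul_le_mul (hc2 D hD) _ (by positivity) (by positivity)
          apply Real.rpow_le_rpow_of_exponent_le (by linarith)
          have : (Lf n : ℝ) ≤ D := by exact_mod_cast hD1
          linarith
        · calc c D * (Nat.card K : ℝ) ^ (-(D : ℝ) / 16) ≤ (c1 * Nat.card K) * (Nat.card K : ℝ) ^ (-(D : ℝ) / 16) := by
                gcongr
                exact hc3 D
            _ = c1 * (Nat.card K : ℝ) ^ (1 - (D : ℝ) / 16) := by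
                rw [mul_assoc]
                congr 1
                rw [sub_eq_add_neg, Real.rpow_add hQ0, Real.rpow_one, neg_div]
            _ ≤ c1 * (Nat.card K : ℝ) ^ (-(Lf n : ℝ) / 16) := by
                gcongr
                · linarith
                · have : (Lf n : ℝ) + 16 ≤ D := by
                    have : Lf n + 16 ≤ D := by omega
                    exact_mod_cast this
                  linarith)
    have h2 := hs K V X σ hσ τ s hs1 c c1 hc1 (by rw [hn]; exact hc2) hc3 hEL hpm (Lf n) (by omega) (by omega)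
    have h3 := (markov (fun x : X => finrank K (smallP (τ x) (Sml (Lf n) s))) (sf n)).trans h2
    rw [hn] at h1
    have h4 : (Nat.card {x : X // ¬ ∃ A : Submodule K V, finrank K A ≤ sf n ∧ GoodPow (τ x) A (k + 1)} : ℝ) ≤
        Nat.card {x : X // ¬ GoodPow (τ x) (smallP (τ x) (Sml (Lf n) s)) (k + 1)} +
        Nat.card {x : X // sf n < finrank K (smallP (τ x) (Sml (Lf n) s))} := by
      have h5 : {x : X | ¬ ∃ A : Submodule K V, finrank K A ≤ sf n ∧ GoodPow (τ x) A (k + 1)} ⊆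
          {x : X | ¬ GoodPow (τ x) (smallP (τ x) (Sml (Lf n) s)) (k + 1)} ∪
          {x : X | sf n < finrank K (smallP (τ x) (Sml (Lf n) s))} := by
        intro x hx
        by_contra hcon
        rw [Set.mem_union, not_or] at hcon
        exact hx ⟨_, not_lt.1 hcon.2, not_not.1 hcon.1⟩
      have h6 := (Nat.card_mono (Set.toFinite _) h5).trans (Set.card_union_le _ _)
      exact_mod_cast h6
    have h7 : (Nat.card {x : X // ¬ GoodPow (τ x) (smallP (τ x) (Sml (Lf n) s)) (k + 1)} : ℝ) ≤ ε / 4 * Nat.card X := by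
      refine h1.trans (mul_le_mul_of_nonneg_right ?_ hX.le)
      refine le_trans ?_ (hu1 n e1 (Nat.card K) hQ)
      push_cast
      calc A * ((k : ℝ) + 1) ^ 3 * ((n : ℝ) + 1) ^ 3 * (c1 * (Nat.card K : ℝ) ^ (-(Lf n : ℝ) / 16))
          ≤ A * (((n : ℝ) ^ 2 * Real.log (Nat.card K)) ^ a + 1) ^ 3 * ((n : ℝ) + 1) ^ 3 *
            (c1 * (Nat.card K : ℝ) ^ (-(Lf n : ℝ) / 16)) := by gcongr
        _ = _ := by ring
    have h8 : (Nat.card {x : X // sf n < finrank K (smallP (τ x) (Sml (Lf n) s))} : ℝ) ≤ ε / 4 * Nat.card X := by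
      have h9 := hu2 n e2
      rw [div_le_iff₀ (by positivity)] at h9
      have h10 : (0 : ℝ) < (sf n : ℝ) + 1 := by positivity
      refine le_of_mul_le_mul_right (h3.trans ?_) h10
      calc A' * c1 * Lf n * Nat.card X ≤ ε / 4 * ((sf n : ℝ) + 1) * Nat.card X := mul_le_mul_of_nonneg_right h9 hX.le
        _ = _ := by ring
    linarith
  · rw [hn]
    have h1 := hu3 n e3 (Nat.card K) hQ
    have h2 : (Nat.card K : ℝ) ^ ((sf n : ℝ) ^ 2) = (Nat.card K : ℝ) ^ (sf n ^ 2) := by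
      have h3 := Real.rpow_natCast (Nat.card K : ℝ) (sf n ^ 2)
      push_cast at h3
      exact h3
    rw [h2] at h1
    have hk0 : (0 : ℝ) ≤ Nat.card (ConjClasses X) := Nat.cast_nonneg _
    have hl0 : 0 ≤ Real.log (Nat.card K : ℝ) := Real.log_nonneg (by linarith)
    rcases hC.eq_or_lt with hC0 | hC0
    · rw [← hC0, zero_mul] at hnum
      have h3 : (0 : ℝ) < (Nat.card K : ℝ) ^ ((n : ℝ) / 4) := by positivity
      have h4 : (Nat.card (ConjClasses X) : ℝ) = 0 := by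
        by_contra hne
        have : (0 : ℝ) < Nat.card (ConjClasses X) := lt_of_le_of_ne hk0 (Ne.symm hne)
        have := mul_pos h3 this
        linarith
      rw [h4]
      simp only [mul_zero, zero_mul]
      positivity
    · refine le_of_mul_le_mul_left ?_ hC0
      calc C * ((Nat.card K : ℝ) ^ (sf n ^ 2) * (2 / ε * Nat.card (ConjClasses X)) *
            (((n : ℝ) ^ 2 * Real.log (Nat.card K)) ^ a) ^ 2)
          = ((Nat.card K : ℝ) ^ (sf n ^ 2) * (2 / ε * C) * (((n : ℝ) ^ 2 * Real.log (Nat.card K)) ^ a) ^ 2) *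
            Nat.card (ConjClasses X) := by ring
        _ ≤ (Nat.card K : ℝ) ^ ((n : ℝ) / 4) * Nat.card (ConjClasses X) := mul_le_mul_of_nonneg_right h1 hk0
        _ ≤ C * d ^ 2 := hnum

/-- **Bounded rank.** -/
theorem bdd (hb : BadSt) (a N s0 : ℕ) {ε C B : ℝ} (hε : 0 < ε) (hC : 0 ≤ C) (hB : 0 ≤ B) :
    ∃ Q0 : ℕ, ∀ (K V X T : Type) [Field K] [Finite K] [AddCommGroup V] [Module K V] [Finite V] [Group X] [Finite X] [Group T]
      [Finite T] (τ : X →* (V →ₗ[K] V)) (π : X →* T) (d : ℝ), Dat K V X T τ π d → finrank K V ≤ N →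
      (∀ k : ℕ, (Nat.card {x : X // ¬ ∃ A : Submodule K V, finrank K A ≤ s0 ∧ GoodPow (τ x) A (k + 1)} : ℝ) ≤
        B * ((k : ℝ) + 1) ^ 3 * (Nat.card K : ℝ) ^ (-(1 : ℝ) / 16) * Nat.card X) →
      (Nat.card K : ℝ) ^ (s0 ^ 2) * ((Nat.card K : ℝ) ^ ((1 : ℝ) / 16) * Nat.card (ConjClasses X)) ≤ C * d ^ 2 →
      Q0 ≤ Nat.card K → (badN T (lg T ^ a) ((lg T ^ a)⁻¹) : ℝ) ≤ ε * Nat.card T := by
  obtain ⟨Q1, hQ1⟩ := num_bd a N B hB (ε := ε / 2) (by positivity)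
  obtain ⟨Q2, hQ2⟩ := num_bd (2 * a) N (2 / ε * C) (by positivity) (ε := 1) one_pos
  refine ⟨max Q1 Q2, ?_⟩
  intro K V X T _ _ _ _ _ _ _ _ _ τ π d h hN hbad hnum hQ
  have hX : (0 : ℝ) < Nat.card X := by exact_mod_cast Nat.card_pos
  obtain ⟨h1, h2⟩ := hQ1 (finrank K V) hN (Nat.card K) (by exact_mod_cast (le_max_left _ _).trans hQ)
  obtain ⟨-, h3⟩ := hQ2 (finrank K V) hN (Nat.card K) (by exact_mod_cast (le_max_right _ _).trans hQ)
  generalize hn : finrank K V = n at *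
  have hQ0 : (0 : ℝ) < Nat.card K := by linarith
  have hl0 : 0 ≤ Real.log (Nat.card K : ℝ) := Real.log_nonneg (by linarith)
  apply key hb h a s0 hε
  · intro k hk
    rw [hn] at hk
    refine (hbad k).trans (mul_le_mul_of_nonneg_right ?_ hX.le)
    refine le_trans ?_ h2
    gcongr
  · rw [hn]
    have hk0 : (0 : ℝ) ≤ Nat.card (ConjClasses X) := Nat.cast_nonneg _
    have h4 : (((n : ℝ) ^ 2 * Real.log (Nat.card K)) ^ a) ^ 2 ≤ (((n : ℝ) ^ 2 * Real.log (Nat.card K)) ^ (2 * a) + 1) ^ 3 := by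
      have e : (((n : ℝ) ^ 2 * Real.log (Nat.card K)) ^ a) ^ 2 = ((n : ℝ) ^ 2 * Real.log (Nat.card K)) ^ (2 * a) := by
        rw [← pow_mul, mul_comm a 2]
      rw [e]
      have h5 : 0 ≤ ((n : ℝ) ^ 2 * Real.log (Nat.card K)) ^ (2 * a) := by positivity
      have h7 : ((n : ℝ) ^ 2 * Real.log (Nat.card K)) ^ (2 * a) + 1 ≤ (((n : ℝ) ^ 2 * Real.log (Nat.card K)) ^ (2 * a) + 1) ^ 3 :=
        le_self_pow₀ (by linarith) (by norm_num)
      linarith
    have h5 : 2 / ε * C * (((n : ℝ) ^ 2 * Real.log (Nat.card K)) ^ a) ^ 2 ≤ (Nat.card K : ℝ) ^ ((1 : ℝ) / 16) := by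
      have e : (Nat.card K : ℝ) ^ (-(1 : ℝ) / 16) * (Nat.card K : ℝ) ^ ((1 : ℝ) / 16) = 1 := by
        rw [← Real.rpow_add hQ0]
        norm_num
      have h6 : (0 : ℝ) < (Nat.card K : ℝ) ^ ((1 : ℝ) / 16) := by positivity
      calc 2 / ε * C * (((n : ℝ) ^ 2 * Real.log (Nat.card K)) ^ a) ^ 2
          ≤ 2 / ε * C * (((n : ℝ) ^ 2 * Real.log (Nat.card K)) ^ (2 * a) + 1) ^ 3 := by gcongr
        _ = (2 / ε * C * (((n : ℝ) ^ 2 * Real.log (Nat.card K)) ^ (2 * a) + 1) ^ 3 * (Nat.card K : ℝ) ^ (-(1 : ℝ) / 16)) *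
            (Nat.card K : ℝ) ^ ((1 : ℝ) / 16) := by
              rw [mul_assoc _ ((Nat.card K : ℝ) ^ (-(1 : ℝ) / 16)), e, mul_one]
        _ ≤ 1 * (Nat.card K : ℝ) ^ ((1 : ℝ) / 16) := mul_le_mul_of_nonneg_right h3 h6.le
        _ = _ := one_mul _
    rcases hC.eq_or_lt with hC0 | hC0
    · rw [← hC0, zero_mul] at hnum
      have h6 : (0 : ℝ) < (Nat.card K : ℝ) ^ (s0 ^ 2) * (Nat.card K : ℝ) ^ ((1 : ℝ) / 16) := by positivity
      have h7 : (Nat.card (ConjClasses X) : ℝ) = 0 := by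
        by_contra hne
        have : (0 : ℝ) < Nat.card (ConjClasses X) := lt_of_le_of_ne hk0 (Ne.symm hne)
        have := mul_pos h6 this
        linarith
      rw [h7]
      simp only [mul_zero, zero_mul]
      positivity
    · refine le_of_mul_le_mul_left ?_ hC0
      calc C * ((Nat.card K : ℝ) ^ (s0 ^ 2) * (2 / ε * Nat.card (ConjClasses X)) *
            (((n : ℝ) ^ 2 * Real.log (Nat.card K)) ^ a) ^ 2)
          = (Nat.card K : ℝ) ^ (s0 ^ 2) * ((2 / ε * C * (((n : ℝ) ^ 2 * Real.log (Nat.card K)) ^ a) ^ 2) *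
            Nat.card (ConjClasses X)) := by ring
        _ ≤ (Nat.card K : ℝ) ^ (s0 ^ 2) * ((Nat.card K : ℝ) ^ ((1 : ℝ) / 16) * Nat.card (ConjClasses X)) := by gcongr
        _ ≤ C * d ^ 2 := hnum

/-- **The glue.** `R T n Q` : a property of a group `T` of "rank" `n` over the field with `Q` elements. -/
theorem famP_of {P : Grp → Prop} (R : (T : Type) → [Group T] → ℕ → ℕ → Prop)
    (hR : ∀ (g : Grp) (T : Type) [Group T] [Finite T] [IsSimpleGroup T], IsNamed g T → P g →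
      ∃ n Q, R T n Q ∧ Nat.card T ≤ Q ^ (n ^ 2))
    (hu : ∀ (a : ℕ) (ε : ℝ), 0 < ε → ∃ N : ℕ, ∀ (T : Type) [Group T] [Finite T] [IsSimpleGroup T] (n Q : ℕ), R T n Q →
      N ≤ n → (badN T (lg T ^ a) ((lg T ^ a)⁻¹) : ℝ) ≤ ε * Nat.card T)
    (hb : ∀ (a N : ℕ) (ε : ℝ), 0 < ε → ∃ Q0 : ℕ, ∀ (T : Type) [Group T] [Finite T] [IsSimpleGroup T] (n Q : ℕ), R T n Q →
      n ≤ N → Q0 ≤ Q → (badN T (lg T ^ a) ((lg T ^ a)⁻¹) : ℝ) ≤ ε * Nat.card T) : FamP P := by
  intro a ε hε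
  obtain ⟨N, hN⟩ := hu a ε hε
  obtain ⟨Q0, hQ0⟩ := hb a N ε hε
  refine ⟨(Q0 + 1) ^ (N ^ 2) + 1, fun g T _ _ _ hT hg hD => ?_⟩
  obtain ⟨n, Q, hr, hc⟩ := hR g T hT hg
  by_cases h1 : N ≤ n
  · exact hN T n Q hr h1
  · by_cases h2 : Q0 ≤ Q
    · exact hQ0 T n Q hr (by omega) h2
    · exfalso
      have h3 : Q ^ (n ^ 2) ≤ (Q0 + 1) ^ (N ^ 2) := by
        calc Q ^ (n ^ 2) ≤ (Q0 + 1) ^ (n ^ 2) := Nat.pow_le_pow_left (by omega) _
          _ ≤ (Q0 + 1) ^ (N ^ 2) := Nat.pow_le_pow_right (by omega) (Nat.pow_le_pow_left (by omega) 2)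
      omega

end Cfsg.Agent.H835.Rg
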