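import Cfsg.Agent.H835.Rg.PSp
import Cfsg.Agent.H926.RG.CoreSum
import Cfsg.Agent.H244.Rg.SumsB
import Cfsg.Agent.H5.Rg.Small
import Cfsg.Agent.H342.Rg.Cent
import Cfsg.Agent.H640.RG.ElSp

/-!
# S5714, C13: `FamP` for the symplectic groups
-/

set_option autoImplicit false

namespace Cfsg.Agent.H835.Rg

open Cfsg Cfsg.Agent.OrdDiv Cfsg.Agent.H436 Cfsg.Agent.H141.Rg Polynomial Module

theorem coreSt : CoreSt := Cfsg.Agent.H926.RG.core_of_sums Cfsg.Agent.H244.Rg.sum_b1 Cfsg.Agent.H244.Rg.sum_b2 Cfsg.Agent.H244.Rg.sum_rep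

theorem smallSt : SmallSt := Cfsg.Agent.H5.Rg.small_le_of Cfsg.Agent.H244.Rg.sum_cyc

theorem badSt : BadSt := by
  intro K V _ _ _ _ _ X _ _ T _ _ π hπ hk τ hτ d ρ w s0 k hw hd hdeg hρ hnum
  exact Cfsg.Agent.H342.Rg.badN_le π hπ hk hτ hw hd hdeg hρ hnum

theorem elSpSt : ElSpSt := fun m F _ _ => Cfsg.Agent.H640.RG.el_sp m F

/-- **`FamP` for the symplectic groups.** -/
theorem famP_psp : FamP (fun g => ∃ m q, g = .psp m q) := famP_psp_of coreSt smallSt badSt elSpSt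

end Cfsg.Agent.H835.Rg
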