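import Mathlib

/-!
# S5714: numerical lemmas for the two regimes (bounded and unbounded rank)

`u = ⌊n ^ (1/4)⌋ = Nat.sqrt (Nat.sqrt n)` is the bound `L` for the degree, `s0 = Nat.sqrt n / 4`.
-/

set_option autoImplicit false

namespace Cfsg.Agent.H835.Rg

open Filter Topology

/-- the degree bound -/
def Lf (n : ℕ) : ℕ := Nat.sqrt (Nat.sqrt n)

/-- the dimension bound -/
def sf (n : ℕ) : ℕ := Nat.sqrt n / 4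

theorem le_Lf {u n : ℕ} (h : u ^ 4 ≤ n) : u ≤ Lf n := by
  unfold Lf
  rw [Nat.le_sqrt', Nat.le_sqrt', ← pow_mul]
  exact h

theorem Lf_pow_le (n : ℕ) : Lf n ^ 4 ≤ n := by
  have h1 : Lf n ^ 2 ≤ Nat.sqrt n := Nat.sqrt_le' _
  calc Lf n ^ 4 = (Lf n ^ 2) ^ 2 := by rw [← pow_mul]
    _ ≤ Nat.sqrt n ^ 2 := Nat.pow_le_pow_left h1 2
    _ ≤ n := Nat.sqrt_le' _

theorem lt_Lf_pow (n : ℕ) : n < (Lf n + 1) ^ 4 := by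
  have h1 : Nat.sqrt n < (Lf n + 1) ^ 2 := Nat.lt_succ_sqrt' _
  have h2 : n < (Nat.sqrt n + 1) ^ 2 := Nat.lt_succ_sqrt' _
  calc n < (Nat.sqrt n + 1) ^ 2 := h2
    _ ≤ ((Lf n + 1) ^ 2) ^ 2 := Nat.pow_le_pow_left h1 2
    _ = _ := by rw [← pow_mul]

theorem sf_sq_le (n : ℕ) : 16 * sf n ^ 2 ≤ n := by
  have h1 : 4 * sf n ≤ Nat.sqrt n := Nat.mul_div_le _ _
  calc 16 * sf n ^ 2 = (4 * sf n) ^ 2 := by ring
    _ ≤ Nat.sqrt n ^ 2 := Nat.pow_le_pow_left h1 2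
    _ ≤ n := Nat.sqrt_le' _

theorem Lf_sq_le (n : ℕ) : Lf n ^ 2 ≤ 4 * (sf n + 1) := by
  have h1 : Lf n ^ 2 ≤ Nat.sqrt n := Nat.sqrt_le' _
  have h2 : Nat.sqrt n < 4 * (sf n + 1) := by
    unfold sf
    omega
  omega

/-- powers of the logarithm are bounded by small powers -/
theorem log_bound (a : ℕ) {δ : ℝ} (hδ : 0 < δ) : ∃ B : ℝ, 1 ≤ B ∧ ∀ n Q : ℝ, 0 ≤ n → 1 ≤ Q →
    ((n ^ 2 * Real.log Q) ^ a + 1) ≤ B * (n + 1) ^ (2 * a) * Q ^ δ := by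
  have hd : 0 < δ / (a + 1) := by positivity
  refine ⟨(δ / (a + 1))⁻¹ ^ a + 1, by have : 0 ≤ (δ / (a + 1))⁻¹ ^ a := by positivity
                                      linarith, fun n Q hn hQ => ?_⟩
  have h0 : 0 ≤ Real.log Q := Real.log_nonneg hQ
  have h1 : Real.log Q ≤ Q ^ (δ / (a + 1)) / (δ / (a + 1)) := Real.log_le_rpow_div (by linarith) hd
  have h2 : (n ^ 2 * Real.log Q) ^ a ≤ ((n + 1) ^ 2 * (Q ^ (δ / (a + 1)) / (δ / (a + 1)))) ^ a := by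
    apply pow_le_pow_left₀ (by positivity)
    apply mul_le_mul _ h1 h0 (by positivity)
    apply pow_le_pow_left₀ hn (by linarith)
  have h3 : (Q ^ (δ / (a + 1))) ^ a ≤ Q ^ δ := by
    rw [← Real.rpow_natCast, ← Real.rpow_mul (by linarith)]
    apply Real.rpow_le_rpow_of_exponent_le hQ
    rw [div_mul_eq_mul_div, div_le_iff₀ (by positivity)]
    nlinarith
  have h4 : 1 ≤ Q ^ δ := Real.one_le_rpow hQ hδ.le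
  have h5 : (1 : ℝ) ≤ (n + 1) ^ (2 * a) := one_le_pow₀ (by linarith)
  have h6 : ((n + 1) ^ 2 * (Q ^ (δ / (a + 1)) / (δ / (a + 1)))) ^ a =
      (δ / (a + 1))⁻¹ ^ a * (n + 1) ^ (2 * a) * (Q ^ (δ / (a + 1))) ^ a := by
    rw [mul_pow, div_pow, ← pow_mul, inv_pow]
    field_simp
  have h7 : (δ / (a + 1))⁻¹ ^ a * (n + 1) ^ (2 * a) * (Q ^ (δ / (a + 1))) ^ a ≤
      (δ / (a + 1))⁻¹ ^ a * (n + 1) ^ (2 * a) * Q ^ δ :=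
    mul_le_mul_of_nonneg_left h3 (by positivity)
  have h8 : 1 ≤ (n + 1) ^ (2 * a) * Q ^ δ := one_le_mul_of_one_le_of_one_le h5 h4
  calc (n ^ 2 * Real.log Q) ^ a + 1 ≤ (δ / (a + 1))⁻¹ ^ a * (n + 1) ^ (2 * a) * Q ^ δ + (n + 1) ^ (2 * a) * Q ^ δ := by
        linarith
    _ = _ := by ring

/-- polynomials in `u` are beaten by `2 ^ (- u / 16)` -/
theorem poly_exp (B : ℝ) (j : ℕ) {δ : ℝ} (hδ : 0 < δ) :
    ∃ u0 : ℕ, ∀ u : ℕ, u0 ≤ u → B * ((u : ℝ) + 1) ^ j * (2 : ℝ) ^ (-(u : ℝ) / 16) ≤ δ := by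
  have hr : |(2 : ℝ) ^ (-(1 : ℝ) / 16)| < 1 := by
    rw [abs_of_pos (by positivity)]
    apply Real.rpow_lt_one_of_one_lt_of_neg (by norm_num) (by norm_num)
  have h1 := tendsto_pow_const_mul_const_pow_of_abs_lt_one j hr
  have h2 : Tendsto (fun u : ℕ => B * ((2 : ℝ) ^ (-(1 : ℝ) / 16))⁻¹ * ((((u + 1 : ℕ) : ℝ)) ^ j *
      ((2 : ℝ) ^ (-(1 : ℝ) / 16)) ^ (u + 1))) atTop (𝓝 (B * ((2 : ℝ) ^ (-(1 : ℝ) / 16))⁻¹ * 0)) :=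
    (h1.comp (tendsto_add_atTop_nat 1)).const_mul _
  rw [mul_zero] at h2
  obtain ⟨u0, hu⟩ := eventually_atTop.1 (h2.eventually_le_const hδ)
  refine ⟨u0, fun u hle => ?_⟩
  have h3 := hu u hle
  have h4 : (2 : ℝ) ^ (-(u : ℝ) / 16) = ((2 : ℝ) ^ (-(1 : ℝ) / 16)) ^ u := by
    rw [← Real.rpow_natCast, ← Real.rpow_mul (by norm_num)]
    congr 1
    ring
  have h5 : ((2 : ℝ) ^ (-(1 : ℝ) / 16)) ≠ 0 := by positivity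
  have h6 : B * ((2 : ℝ) ^ (-(1 : ℝ) / 16))⁻¹ * ((((u + 1 : ℕ) : ℝ)) ^ j * ((2 : ℝ) ^ (-(1 : ℝ) / 16)) ^ (u + 1)) =
      B * ((u : ℝ) + 1) ^ j * ((2 : ℝ) ^ (-(1 : ℝ) / 16)) ^ u := by
    rw [pow_succ ((2 : ℝ) ^ (-(1 : ℝ) / 16)) u]
    push_cast
    field_simp
  rw [h4, ← h6]
  exact h3

/-- **first estimate** (unbounded rank) -/
theorem num_one (a : ℕ) (B : ℝ) (hB : 0 ≤ B) {ε : ℝ} (hε : 0 < ε) : ∃ u0 : ℕ, ∀ n : ℕ, u0 ≤ Lf n → ∀ Q : ℝ, 2 ≤ Q →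
    B * (((n : ℝ) ^ 2 * Real.log Q) ^ a + 1) ^ 3 * ((n : ℝ) + 1) ^ 3 * Q ^ (-(Lf n : ℝ) / 16) ≤ ε := by
  obtain ⟨B1, hB1, hb⟩ := log_bound a (δ := 1 / 48) (by norm_num)
  obtain ⟨u0, hu⟩ := poly_exp (B * B1 ^ 3 * 2 ^ (1 / 16 : ℝ)) (24 * a + 12) hε
  refine ⟨max u0 1, fun n hn Q hQ => ?_⟩
  have hu1 : (1 : ℝ) ≤ Lf n := by exact_mod_cast (le_max_right u0 1).trans hn
  have h1 := hb n Q (by positivity) (by linarith)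
  have h2 : ((n : ℝ) + 1) ≤ ((Lf n : ℝ) + 1) ^ 4 := by exact_mod_cast lt_Lf_pow n
  have h3 : Q ^ (1 / 16 - (Lf n : ℝ) / 16) ≤ (2 : ℝ) ^ (1 / 16 - (Lf n : ℝ) / 16) :=
    Real.rpow_le_rpow_of_nonpos (by norm_num) hQ (by linarith)
  have hQ0 : (0 : ℝ) < Q := by linarith
  have hl : 0 ≤ Real.log Q := Real.log_nonneg (by linarith)
  calc B * (((n : ℝ) ^ 2 * Real.log Q) ^ a + 1) ^ 3 * ((n : ℝ) + 1) ^ 3 * Q ^ (-(Lf n : ℝ) / 16)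
      ≤ B * (B1 * ((n : ℝ) + 1) ^ (2 * a) * Q ^ (1 / 48 : ℝ)) ^ 3 * ((n : ℝ) + 1) ^ 3 * Q ^ (-(Lf n : ℝ) / 16) := by
        gcongr
    _ = B * B1 ^ 3 * ((n : ℝ) + 1) ^ (6 * a + 3) * Q ^ (1 / 16 - (Lf n : ℝ) / 16) := by
        have e1 : (Q ^ (1 / 48 : ℝ)) ^ 3 = Q ^ (1 / 16 : ℝ) := by
          rw [← Real.rpow_natCast, ← Real.rpow_mul hQ0.le]
          norm_num
        have e2 : Q ^ (1 / 16 - (Lf n : ℝ) / 16) = Q ^ (1 / 16 : ℝ) * Q ^ (-(Lf n : ℝ) / 16) := by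
          rw [← Real.rpow_add hQ0]
          congr 1
          ring
        rw [e2, mul_pow, mul_pow, e1, ← pow_mul]
        ring
    _ ≤ B * B1 ^ 3 * (((Lf n : ℝ) + 1) ^ 4) ^ (6 * a + 3) * (2 : ℝ) ^ (1 / 16 - (Lf n : ℝ) / 16) := by
        gcongr
    _ = B * B1 ^ 3 * 2 ^ (1 / 16 : ℝ) * ((Lf n : ℝ) + 1) ^ (24 * a + 12) * (2 : ℝ) ^ (-(Lf n : ℝ) / 16) := by
        have e2 : (2 : ℝ) ^ (1 / 16 - (Lf n : ℝ) / 16) = 2 ^ (1 / 16 : ℝ) * 2 ^ (-(Lf n : ℝ) / 16) := by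
          rw [← Real.rpow_add (by norm_num)]
          congr 1
          ring
        rw [e2, ← pow_mul]
        ring
    _ ≤ ε := hu _ ((le_max_left _ _).trans hn)

/-- **second estimate** (unbounded rank) -/
theorem num_two (B : ℝ) {ε : ℝ} (hε : 0 < ε) : ∃ u0 : ℕ, ∀ n : ℕ, u0 ≤ Lf n →
    B * (Lf n : ℝ) / ((sf n : ℝ) + 1) ≤ ε := by
  refine ⟨⌈4 * B / ε⌉₊ + 1, fun n hn => ?_⟩
  have h1 : (Lf n : ℝ) ^ 2 ≤ 4 * ((sf n : ℝ) + 1) := by exact_mod_cast Lf_sq_le n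
  have h2 : 4 * B / ε ≤ Lf n := by
    refine (Nat.le_ceil _).trans ?_
    exact_mod_cast (Nat.le_succ _).trans hn
  have h3 : 4 * B ≤ Lf n * ε := (div_le_iff₀ hε).1 h2
  rw [div_le_iff₀ (by positivity)]
  have h4 : (0 : ℝ) ≤ Lf n := by positivity
  have h5 : B * Lf n * 4 ≤ Lf n ^ 2 * ε := by nlinarith
  nlinarith

/-- **third estimate** (unbounded rank) -/
theorem num_three (a : ℕ) (B : ℝ) (hB : 0 ≤ B) : ∃ u0 : ℕ, ∀ n : ℕ, u0 ≤ Lf n → ∀ Q : ℝ, 2 ≤ Q →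
    Q ^ ((sf n : ℝ) ^ 2) * B * (((n : ℝ) ^ 2 * Real.log Q) ^ a) ^ 2 ≤ Q ^ ((n : ℝ) / 4) := by
  obtain ⟨u0, hu⟩ := num_one (2 * a) B hB one_pos
  refine ⟨max u0 1, fun n hn Q hQ => ?_⟩
  have hQ0 : (0 : ℝ) < Q := by linarith
  have hl : 0 ≤ Real.log Q := Real.log_nonneg (by linarith)
  have h1 := hu n ((le_max_left _ _).trans hn) Q hQ
  have hu1 : (1 : ℝ) ≤ Lf n := by exact_mod_cast (le_max_right u0 1).trans hn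
  have h2 : (Lf n : ℝ) ≤ n := by
    have : Lf n ≤ n := (Nat.le_self_pow (by norm_num) _).trans (Lf_pow_le n)
    exact_mod_cast this
  have h3 : 16 * (sf n : ℝ) ^ 2 ≤ n := by exact_mod_cast sf_sq_le n
  have h4 : (((n : ℝ) ^ 2 * Real.log Q) ^ a) ^ 2 ≤ (((n : ℝ) ^ 2 * Real.log Q) ^ (2 * a) + 1) ^ 3 * ((n : ℝ) + 1) ^ 3 := by
    have e : (((n : ℝ) ^ 2 * Real.log Q) ^ a) ^ 2 = ((n : ℝ) ^ 2 * Real.log Q) ^ (2 * a) := by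
      rw [← pow_mul, mul_comm a 2]
    rw [e]
    have h5 : 0 ≤ ((n : ℝ) ^ 2 * Real.log Q) ^ (2 * a) := by positivity
    have h6 : (1 : ℝ) ≤ ((n : ℝ) + 1) ^ 3 := one_le_pow₀ (by linarith [Nat.cast_nonneg (α := ℝ) n])
    have h7 : ((n : ℝ) ^ 2 * Real.log Q) ^ (2 * a) + 1 ≤ (((n : ℝ) ^ 2 * Real.log Q) ^ (2 * a) + 1) ^ 3 :=
      le_self_pow₀ (by linarith) (by norm_num)
    nlinarith
  have h5 : Q ^ ((sf n : ℝ) ^ 2) ≤ Q ^ ((n : ℝ) / 4) * Q ^ (-(Lf n : ℝ) / 16) := by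
    rw [← Real.rpow_add hQ0]
    apply Real.rpow_le_rpow_of_exponent_le (by linarith)
    linarith
  calc Q ^ ((sf n : ℝ) ^ 2) * B * (((n : ℝ) ^ 2 * Real.log Q) ^ a) ^ 2
      ≤ (Q ^ ((n : ℝ) / 4) * Q ^ (-(Lf n : ℝ) / 16)) * B * ((((n : ℝ) ^ 2 * Real.log Q) ^ (2 * a) + 1) ^ 3 *
          ((n : ℝ) + 1) ^ 3) := by gcongr
    _ = Q ^ ((n : ℝ) / 4) * (B * (((n : ℝ) ^ 2 * Real.log Q) ^ (2 * a) + 1) ^ 3 * ((n : ℝ) + 1) ^ 3 *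
          Q ^ (-(Lf n : ℝ) / 16)) := by ring
    _ ≤ Q ^ ((n : ℝ) / 4) * 1 := by gcongr
    _ = _ := mul_one _

/-- **the estimate for bounded rank** -/
theorem num_bd (a N : ℕ) (B : ℝ) (hB : 0 ≤ B) {ε : ℝ} (hε : 0 < ε) : ∃ Q0 : ℕ, ∀ n : ℕ, n ≤ N → ∀ Q : ℝ, (Q0 : ℝ) ≤ Q →
    1 ≤ Q ∧ B * (((n : ℝ) ^ 2 * Real.log Q) ^ a + 1) ^ 3 * Q ^ (-(1 : ℝ) / 16) ≤ ε := by
  obtain ⟨B1, hB1, hb⟩ := log_bound a (δ := 1 / 96) (by norm_num)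
  have h1 : Tendsto (fun Q : ℝ => B * B1 ^ 3 * (((N : ℝ) + 1) ^ (2 * a)) ^ 3 * Q ^ (-(1 / 32 : ℝ))) atTop
      (𝓝 (B * B1 ^ 3 * (((N : ℝ) + 1) ^ (2 * a)) ^ 3 * 0)) :=
    (tendsto_rpow_neg_atTop (by norm_num)).const_mul _
  rw [mul_zero] at h1
  obtain ⟨R, hR⟩ := eventually_atTop.1 (h1.eventually_le_const hε)
  refine ⟨max ⌈R⌉₊ 1, fun n hn Q hQ => ?_⟩
  have hQ1 : 1 ≤ Q := by
    refine le_trans ?_ hQ
    exact_mod_cast le_max_right _ _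
  have hQR : R ≤ Q := by
    refine ((Nat.le_ceil R).trans ?_).trans hQ
    exact_mod_cast le_max_left _ _
  have hQ0 : (0 : ℝ) < Q := by linarith
  have hl : 0 ≤ Real.log Q := Real.log_nonneg hQ1
  have hnN : (n : ℝ) ≤ N := by exact_mod_cast hn
  refine ⟨hQ1, ?_⟩
  calc B * (((n : ℝ) ^ 2 * Real.log Q) ^ a + 1) ^ 3 * Q ^ (-(1 : ℝ) / 16)
      ≤ B * (B1 * ((n : ℝ) + 1) ^ (2 * a) * Q ^ (1 / 96 : ℝ)) ^ 3 * Q ^ (-(1 : ℝ) / 16) := by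
        gcongr
        exact hb n Q (by positivity) hQ1
    _ ≤ B * (B1 * ((N : ℝ) + 1) ^ (2 * a) * Q ^ (1 / 96 : ℝ)) ^ 3 * Q ^ (-(1 : ℝ) / 16) := by gcongr
    _ = B * B1 ^ 3 * (((N : ℝ) + 1) ^ (2 * a)) ^ 3 * Q ^ (-(1 / 32 : ℝ)) := by
        have e1 : (Q ^ (1 / 96 : ℝ)) ^ 3 = Q ^ (1 / 32 : ℝ) := by
          rw [← Real.rpow_natCast, ← Real.rpow_mul hQ0.le]
          norm_num
        have e2 : Q ^ (-(1 / 32 : ℝ)) = Q ^ (1 / 32 : ℝ) * Q ^ (-(1 : ℝ) / 16) := by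
          rw [← Real.rpow_add hQ0]
          norm_num
        rw [e2, mul_pow, mul_pow, e1]
        ring
    _ ≤ ε := hR Q hQR

end Cfsg.Agent.H835.Rg
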