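import Cfsg.Agent.H835.Rg.Reg
import Cfsg.Agent.S2482
import Cfsg.Agent.S2557
import Cfsg.Agent.H16.DP.Deg
import Cfsg.Agent.CharDeep.LinearChar

/-!
# S5714, C13: the symplectic groups
-/

set_option autoImplicit false

namespace Cfsg.Agent.H835.Rg

open Cfsg Cfsg.Agent.OrdDiv Cfsg.Agent.H436 Cfsg.Agent.H141.Rg Polynomial Module
open Cfsg.Agent.H514.DP (MinDeg)

/-- a lower bound for the degrees of the irreducible representations of dimension at least two passes to quotients -/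
theorem minDeg_surj {G H : Type*} [Group G] [Group H] {b : ℕ} (h : MinDeg G b) (f : G →* H)
    (hf : Function.Surjective f) : MinDeg H b := fun k ρ hρ hk =>
  h k (ρ.comp f) (Cfsg.Agent.CharDeep.LinearChar.isIrreducible_comp f hf ρ hρ) hk

/-- quotients of perfect groups are perfect -/
theorem perf_surj {X T : Type*} [Group X] [Group T] (h : commutator X = ⊤) (π : X →* T) (hπ : Function.Surjective π) :
    commutator T = ⊤ := by
  rw [commutator_def, ← Subgroup.map_top_of_surjective π hπ, ← Subgroup.map_commutator, ← commutator_def, h]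

/-- degrees of the nontrivial irreducible characters -/
theorem deg_of_minDeg {X T : Type} [Group X] [Group T] [Finite T] (hp : commutator X = ⊤) {b : ℕ} (h : MinDeg X b) (π : X →* T) (hπ : Function.Surjective π) (χ : T → ℂ)
    (hχ : IsIrrCharacter T χ) (hne : ∃ g, χ g ≠ 1) : (b : ℝ) ≤ (χ 1).re := by
  have h1 : χ 1 ≠ 1 := by
    intro h1
    obtain ⟨g, hg⟩ := hne
    apply hg
    rw [Cfsg.Agent.H514.DP.eq_one_of_perf (perf_surj hp π hπ) hχ h1]
    rfl
  obtain ⟨n, hn, -, e⟩ := (minDeg_surj h π hπ).le hχ h1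
  rw [e]
  simpa using hn

theorem matAct_inj (ι : Type) [Fintype ι] [DecidableEq ι] (F : Type) [Field F] : Function.Injective (matAct ι F) :=
  (Matrix.toLin' (R := F) (m := ι) (n := ι)).injective

theorem spAct_inj (m : ℕ) (F : Type) [Field F] : Function.Injective (spAct m F) := by
  intro a b h
  exact Subtype.ext (matAct_inj _ _ h)

/-- there are no small polynomials -/
theorem Sml_one (K : Type*) [Field K] : Sml 1 (1 : K[X]) = ∅ := by
  ext f
  simp only [Set.mem_empty_iff_false, iff_false]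
  rintro ⟨⟨hm, hi, -⟩, h | h⟩
  · have := hi.natDegree_pos
    omega
  · exact hi.not_isUnit (isUnit_of_dvd_one h)

theorem smallP_empty {K V : Type*} [Field K] [AddCommGroup V] [Module K V] (y : V →ₗ[K] V) : smallP y ∅ = ⊥ := by
  unfold smallP
  simp

/-- the bound of `core` for `L = 1`, `s = 1`, `c = 1` -/
theorem core_one (hc : CoreSt) : ∃ A : ℝ, 0 < A ∧ ∀ (K V X : Type) [Field K] [Finite K] [AddCommGroup V] [Module K V] [Finite V]
    [Group X] [Finite X] (σ : K →+* K), (∀ x, σ (σ x) = x) → ∀ (τ : X →* (V →ₗ[K] V)), EL σ τ 1 (fun _ => 1) → ∀ k : ℕ,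
    (Nat.card {x : X // ¬ ∃ A : Submodule K V, finrank K A ≤ 0 ∧ GoodPow (τ x) A (k + 1)} : ℝ) ≤
      A * ((finrank K V : ℝ) + 1) ^ 3 * ((k : ℝ) + 1) ^ 3 * (Nat.card K : ℝ) ^ (-(1 : ℝ) / 16) * Nat.card X := by
  obtain ⟨A, hA, h⟩ := hc
  refine ⟨A, hA, ?_⟩
  intro K V X _ _ _ _ _ _ _ σ hσ τ hEL k
  have hQ : (1 : ℝ) ≤ Nat.card K := by exact_mod_cast Nat.card_pos (α := K)
  have h1 := h K V X σ hσ τ 1 (Or.inl rfl) (fun _ => 1) (fun _ => le_rfl) hEL (k + 1) 1
    ((Nat.card K : ℝ) ^ (-(1 : ℝ) / 16)) (by positivity) (by omega) le_rfl (by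
      intro D hD _
      rw [one_mul]
      apply Real.rpow_le_rpow_of_exponent_le hQ
      have : (1 : ℝ) ≤ D := by exact_mod_cast hD
      linarith)
  rw [Sml_one] at h1
  have h2 : (Nat.card {x : X // ¬ ∃ A : Submodule K V, finrank K A ≤ 0 ∧ GoodPow (τ x) A (k + 1)} : ℝ) ≤
      Nat.card {x : X // ¬ GoodPow (τ x) (smallP (τ x) ∅) (k + 1)} := by
    have h5 : {x : X | ¬ ∃ A : Submodule K V, finrank K A ≤ 0 ∧ GoodPow (τ x) A (k + 1)} ⊆
        {x : X | ¬ GoodPow (τ x) (smallP (τ x) ∅) (k + 1)} := by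
      intro x hx hcon
      exact hx ⟨_, by rw [smallP_empty, finrank_bot], hcon⟩
    exact_mod_cast Nat.card_mono (Set.toFinite _) h5
  refine h2.trans (h1.trans (le_of_eq ?_))
  push_cast
  ring

/-- the statement of `el_sp` -/
def ElSpSt : Prop := ∀ (m : ℕ) (F : Type) [Field F] [Finite F], EL (RingHom.id F) (spAct m F) 1 (fun _ => 1)

/-- `T = PSp_2m(Q)`, `n = 2 m` -/
def RSp (T : Type) [Group T] (n Q : ℕ) : Prop :=
  ∃ (F : Type) (_ : Field F) (_ : Fintype F) (m : ℕ), n = 2 * m ∧ Q = Fintype.card F ∧ 2 ≤ m ∧ (m = 2 → 3 ≤ Q) ∧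
    Nonempty (T ≃* PSp m F)

theorem finrank_sp (m : ℕ) (F : Type) [Field F] : finrank F (Fin m ⊕ Fin m → F) = 2 * m := by
  rw [Module.finrank_fintype_fun_eq_card, Fintype.card_sum, Fintype.card_fin]
  ring

/-- the data -/
theorem dat_sp {T : Type} [Group T] [Finite T] [IsSimpleGroup T] {F : Type} [Field F] [Fintype F] {m : ℕ} (hm : 2 ≤ m)
    (hm2 : m = 2 → 3 ≤ Fintype.card F) (e : T ≃* PSp m F) :
    ∃ π : Matrix.symplecticGroup (Fin m) F →* T,
      Dat F (Fin m ⊕ Fin m → F) (Matrix.symplecticGroup (Fin m) F) T (spAct m F) π ((Nat.card F : ℝ) ^ m / 4) := by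
  have hq : 2 ≤ Nat.card F := Finite.one_lt_card
  have h4 : 4 ≤ Nat.card F ^ m := by
    calc 4 = 2 ^ 2 := by norm_num
      _ ≤ Nat.card F ^ 2 := Nat.pow_le_pow_left hq 2
      _ ≤ Nat.card F ^ m := Nat.pow_le_pow_right (by omega) hm
  have hmin : MinDeg (Matrix.symplecticGroup (Fin m) F) ((Nat.card F ^ m - 1) / 2) := by
    rcases Nat.even_or_odd (Nat.card F) with he | ho
    · intro k ρ hρ hk
      refine le_trans (Nat.div_le_self _ _) (Cfsg.Agent.H16.DP.minDeg_even hm he ?_ k ρ hρ hk)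
      rintro ⟨rfl, h2⟩
      have := hm2 rfl
      rw [Nat.card_eq_fintype_card] at h2
      omega
    · exact Cfsg.Agent.H16.DP.minDeg_odd hm ho
  let π : Matrix.symplecticGroup (Fin m) F →* T :=
    e.symm.toMonoidHom.comp (QuotientGroup.mk' (Subgroup.center (Matrix.symplecticGroup (Fin m) F)))
  have hπ : Function.Surjective π := e.symm.surjective.comp (QuotientGroup.mk'_surjective _)
  have hker : π.ker ≤ Subgroup.center (Matrix.symplecticGroup (Fin m) F) := by
    intro x hx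
    have h1 : e.symm (QuotientGroup.mk' (Subgroup.center (Matrix.symplecticGroup (Fin m) F)) x) = 1 := hx
    rw [MulEquiv.map_eq_one_iff] at h1
    exact (QuotientGroup.eq_one_iff x).1 h1
  have hd : (Nat.card F : ℝ) ^ m / 4 ≤ (((Nat.card F ^ m - 1) / 2 : ℕ) : ℝ) := by
    have h5 : Nat.card F ^ m ≤ 4 * ((Nat.card F ^ m - 1) / 2) := by omega
    have h6 : (Nat.card F : ℝ) ^ m ≤ 4 * (((Nat.card F ^ m - 1) / 2 : ℕ) : ℝ) := by exact_mod_cast h5
    linarith
  have hp : commutator (Matrix.symplecticGroup (Fin m) F) = ⊤ := Cfsg.Agent.H16.DP.perf hm (by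
    rintro ⟨rfl, h2⟩
    have := hm2 rfl
    rw [Nat.card_eq_fintype_card] at h2
    omega)
  exact ⟨π, hπ, hker, spAct_inj m F, by positivity, fun χ hχ hne => hd.trans (deg_of_minDeg hp hmin π hπ χ hχ hne)⟩

/-- the class numbers -/
theorem class_sp (F : Type) [Field F] [Fintype F] {m : ℕ} (hm : 1 ≤ m) :
    (Nat.card (ConjClasses (Matrix.symplecticGroup (Fin m) F)) : ℝ) ≤ 16 * (Nat.card F : ℝ) ^ m := by
  have h : Nat.card (ConjClasses (Matrix.symplecticGroup (Fin m) F)) ≤ 16 * Nat.card F ^ m := by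
    rw [Nat.card_eq_fintype_card (α := F)]
    rcases Nat.even_or_odd (Fintype.card F) with he | ho
    · have := (S2557.result he m hm).2
      omega
    · have := (S2482.result ho m hm).2
      omega
  exact_mod_cast h

theorem num_sp {Q k : ℝ} {m : ℕ} {δ : ℝ} (hQ : 1 ≤ Q) (hδ : δ ≤ m) (hk : k ≤ 16 * Q ^ m) :
    Q ^ δ * k ≤ 256 * (Q ^ m / 4) ^ 2 := by
  have h1 : Q ^ δ ≤ Q ^ m := by
    rw [← Real.rpow_natCast]
    exact Real.rpow_le_rpow_of_exponent_le hQ hδ
  have hQ0 : (0 : ℝ) < Q := by linarith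
  calc Q ^ δ * k ≤ Q ^ δ * (16 * Q ^ m) := by gcongr
    _ ≤ Q ^ m * (16 * Q ^ m) := by gcongr
    _ = 256 * (Q ^ m / 4) ^ 2 := by ring

/-- **`FamP` for the symplectic groups**, from the general statements -/
theorem famP_psp_of (hc : CoreSt) (hs : SmallSt) (hb : BadSt) (hel : ElSpSt) : FamP (fun g => ∃ m q, g = .psp m q) := by
  refine famP_of (fun T _ n Q => RSp T n Q) ?_ ?_ ?_
  · rintro g T _ _ _ hT ⟨m, q, rfl⟩
    obtain ⟨F, _, _, hF, ⟨e⟩⟩ := hT.real
    obtain ⟨h1, h2, h3⟩ := hT.cond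
    refine ⟨2 * m, q, ⟨F, inferInstance, inferInstance, m, rfl, hF.symm, h1, h2, ⟨e⟩⟩, ?_⟩
    obtain ⟨π, h⟩ := dat_sp h1 (by rw [hF]; exact h2) e
    have h4 := h.card_le
    rw [finrank_sp, Nat.card_eq_fintype_card (α := F), hF] at h4
    exact h4
  · intro a ε hε
    obtain ⟨N, hN⟩ := unb hc hs hb a hε (C := 256) (c1 := 1) (by norm_num) le_rfl
    refine ⟨N, ?_⟩
    rintro T _ _ _ n Q ⟨F, _, _, m, rfl, rfl, h1, h2, ⟨e⟩⟩ hn
    obtain ⟨π, h⟩ := dat_sp h1 h2 e
    have hQ : (1 : ℝ) ≤ Nat.card F := by exact_mod_cast Nat.card_pos (α := F)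
    refine hN F (Fin m ⊕ Fin m → F) (Matrix.symplecticGroup (Fin m) F) T (spAct m F) π _ (RingHom.id F) 1 (fun _ => 1) h
      (fun _ => rfl) (Or.inl rfl) (fun _ => le_rfl) (fun _ _ => le_rfl) (fun _ => by rw [one_mul]; exact hQ) (hel m F)
      (fun h => absurd rfl h) ?_ (by rw [finrank_sp]; exact hn)
    rw [finrank_sp]
    apply num_sp hQ _ (class_sp F (by omega))
    push_cast
    have : (0 : ℝ) ≤ m := Nat.cast_nonneg m
    linarith
  · intro a N ε hε
    obtain ⟨A, hA, hcore⟩ := core_one hc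
    obtain ⟨Q0, hQ0⟩ := bdd hb a N 0 hε (C := 256) (B := A * ((N : ℝ) + 1) ^ 3) (by norm_num) (by positivity)
    refine ⟨Q0, ?_⟩
    rintro T _ _ _ n Q ⟨F, _, _, m, rfl, rfl, h1, h2, ⟨e⟩⟩ hn hQ'
    obtain ⟨π, h⟩ := dat_sp h1 h2 e
    have hQ : (1 : ℝ) ≤ Nat.card F := by exact_mod_cast Nat.card_pos (α := F)
    refine hQ0 F (Fin m ⊕ Fin m → F) (Matrix.symplecticGroup (Fin m) F) T (spAct m F) π _ h
      (by rw [finrank_sp]; exact hn) ?_ ?_ (by rw [Nat.card_eq_fintype_card]; exact hQ')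
    · intro k
      refine (hcore F (Fin m ⊕ Fin m → F) (Matrix.symplecticGroup (Fin m) F) (RingHom.id F) (fun _ => rfl) (spAct m F)
        (hel m F) k).trans ?_
      have h3 : ((finrank F (Fin m ⊕ Fin m → F) : ℕ) : ℝ) ≤ N := by
        rw [finrank_sp]
        exact_mod_cast hn
      gcongr
    · rw [zero_pow (by norm_num), pow_zero, one_mul]
      apply num_sp hQ _ (class_sp F (by omega))
      have : (2 : ℝ) ≤ m := by exact_mod_cast h1
      linarith

end Cfsg.Agent.H835.Rg
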